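import Groth.Agent.EGA2SymLib.PnVA
import Groth.Agent.EGA2SymLib.BaseChange
import Groth.Agent.SquareLib.BCSpan
import Groth.Agent.AmpleDevLib.Pull
import Groth.Agent.MiscFlat6.FpqcDesc
import Groth.Agent.AlgSpRegLib.ImmFpqc
import Groth.Agent.AVThetaLib.Glue

/-!
# Very ampleness descends along faithfully flat extensions of an affine base
-/

set_option autoImplicit false
set_option maxHeartbeats 1000000
set_option linter.style.haveILetI false
set_option backward.isDefEq.respectTransparency false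

universe u

open CategoryTheory CategoryTheory.Limits AlgebraicGeometry TopologicalSpace Opposite
open KFlatLib (pb puSec)
open AmpleLib (res GenOn GenAt)
open TwistLib (genSet)

noncomputable section

namespace VADescLib

variable {X X' Y Y' : Scheme.{u}}

/-- a sum generates only where one of the summands does -/
theorem genAt_add {M : X.Modules} (hM : PicF.IsInvertible M) {W : X.Opens} (a b : Γ(M, W)) {x : X} (hx : x ∈ W)
    (h : GenAt M (a + b) hx) : GenAt M a hx ∨ GenAt M b hx := by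
  obtain ⟨U, g, hxU, hg⟩ := TwistLib.exists_genOn hM x
  have hg' := hg.res (inf_le_right : W ⊓ U ≤ U)
  obtain ⟨c, hc⟩ := (hg (W ⊓ U) inf_le_right).2 (res M inf_le_left a)
  obtain ⟨d, hd⟩ := (hg (W ⊓ U) inf_le_right).2 (res M inf_le_left b)
  dsimp only at hc hd
  have hsum : res M (inf_le_left : W ⊓ U ≤ W) (a + b) = (c + d) • res M inf_le_right g := by
    rw [add_smul, hc, hd]
    exact map_add (M.presheaf.map (homOfLE (inf_le_left : W ⊓ U ≤ W)).op).hom a b
  have hxV : x ∈ W ⊓ U := ⟨hx, hxU⟩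
  have key : ∀ (t : Γ(M, W)) (r : Γ(X, W ⊓ U)), res M inf_le_left t = r • res M inf_le_right g →
      (GenAt M t hx ↔ IsUnit (X.presheaf.germ (W ⊓ U) x hxV r)) := fun t r hr => by
    rw [← AmpleLib.genAt_res (inf_le_left : W ⊓ U ≤ W) t (x := x) hxV, hr,
      AmpleLib.genAt_smul_iff _ _ hxV (hg'.genAt hxV), Scheme.mem_basicOpen _ _ _ hxV]
  have h1 := (key _ _ hsum).mp h
  rw [map_add] at h1
  exact (IsLocalRing.isUnit_or_isUnit_of_isUnit_add h1).imp (key a c hc.symm).mpr (key b d hd.symm).mpr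

theorem topIso_comp (U : X.Opens) {T : Scheme.{u}} (f : X ⟶ T) (a : Γ(T, ⊤)) :
    U.topIso.hom ((U.ι ≫ f).appTop a) = X.presheaf.map (homOfLE (le_top : U ≤ ⊤)).op (f.appTop a) := by
  rw [Scheme.Hom.comp_appTop, CommRingCat.comp_apply]
  rw [← ConcreteCategory.comp_apply]
  congr! 2
  simp [Scheme.Opens.topIso_hom, ← Functor.map_comp]

theorem restrict_appTop (h : X' ⟶ X) (W : X.Opens) (c : Γ(X, W)) :
    (h ⁻¹ᵁ W).topIso.hom ((h ∣_ W).appTop (W.topIso.inv c)) = h.app W c := by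
  have : W.topIso.inv ≫ (h ∣_ W).appTop ≫ (h ⁻¹ᵁ W).topIso.hom = h.app W := by
    simp [Scheme.Hom.appTop, morphismRestrict_app, Scheme.Hom.app_eq_appLE, Scheme.Opens.topIso,
      Scheme.Hom.appLE_map, Scheme.Hom.map_appLE]
  exact congr($this c)

theorem comp_ι_appLE {U : X.Opens} {Z : Scheme.{u}} (a : Z ⟶ (U : Scheme.{u}))
    (h : ⊤ ≤ (a ≫ U.ι) ⁻¹ᵁ U) (q : Γ(U.toScheme, ⊤)) :
    (a ≫ U.ι).appLE U ⊤ h (U.topIso.hom q) = a.appTop q := by
  have : U.topIso.hom ≫ (a ≫ U.ι).appLE U ⊤ h = a.appTop := by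
    rw [Scheme.Hom.comp_appLE]
    simp [Scheme.Hom.appTop, Scheme.Hom.app_eq_appLE, Scheme.Opens.topIso, ← Functor.map_comp_assoc]
    erw [Scheme.Hom.map_appLE a _ (homOfLE (le_top : U.ι ⁻¹ᵁ U ≤ ⊤)).op]
  exact congr($this q)

theorem mem_basicOpen_topIso {U : X.Opens} (q : Γ(U.toScheme, ⊤)) (y : (U : Scheme.{u})) :
    y ∈ U.toScheme.basicOpen q ↔ U.ι y ∈ X.basicOpen (U.topIso.hom q) := by
  refine Scheme.Opens.mem_basicOpen_toScheme.trans ?_
  exact (congr(U.ι y ∈ $(X.basicOpen_res_eq q (eqToHom U.ι_image_top.symm).op))).to_iff.symm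

/-- if a multiple generates then so does the section -/
theorem genAt_of_smul {M : X.Modules} {W : X.Opens} (r : Γ(X, W)) (σ : Γ(M, W)) {z : X} (hz : z ∈ W)
    (hM : PicF.IsInvertible M) (h : GenAt M (r • σ) hz) : GenAt M σ hz := by
  obtain ⟨V, e, hzV, he⟩ := TwistLib.exists_genOn hM z
  obtain ⟨d, hd⟩ := (he (V ⊓ W) inf_le_left).2 (res M inf_le_right σ)
  dsimp only at hd
  have hz' : z ∈ V ⊓ W := ⟨hzV, hz⟩
  have hE := (he.res (inf_le_left : V ⊓ W ≤ V)).genAt hz'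
  rw [← AmpleLib.genAt_res (inf_le_right : V ⊓ W ≤ W) _ hz', AmpleLib.res_smul, ← hd, smul_smul,
    AmpleLib.genAt_smul_iff _ _ hz' hE, Scheme.basicOpen_mul] at h
  rw [← AmpleLib.genAt_res (inf_le_right : V ⊓ W ≤ W) _ hz', ← hd, AmpleLib.genAt_smul_iff _ _ hz' hE]
  exact h.2

/-- at each point upstairs some inverse image of a section generates -/
theorem exists_genAt_puSec {g : Y' ⟶ Y} {g' : X' ⟶ X} {f : X ⟶ Y} {f' : X' ⟶ Y'}
    (H : IsPullback g' f' f g) [QuasiCompact f] [QuasiSeparated f] [Flat g] [IsAffine Y] [IsAffine Y']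
    {L : X.Modules} (hL : PicF.IsInvertible L) (t : Γ(pb g' L, ⊤)) {z : X'}
    (ht : GenAt (pb g' L) t (show z ∈ (⊤ : X'.Opens) from trivial)) :
    ∃ σ : Γ(L, ⊤), GenAt L σ (show g' z ∈ (⊤ : X.Opens) from trivial) := by
  haveI : Coh.IsQCoh L := TwistLib.isQCoh_of_isInvertible hL
  have hL' : PicF.IsInvertible (pb g' L) := AmpleDevLib.isInvertible_pb g' hL
  have hmem := SquareLib.span_puSec_top H L t
  suffices ∀ m : Γ(pb g' L, ⊤), GenAt (pb g' L) m (show z ∈ (⊤ : X'.Opens) from trivial) ∨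
      GenAt (pb g' L) (-m) (show z ∈ (⊤ : X'.Opens) from trivial) →
      m ∈ AddSubgroup.closure {m : Γ(pb g' L, (⊤ : X'.Opens)) |
        ∃ (b : Γ(Y', ⊤)) (σ : Γ(L, ⊤)), m = f'.appTop b • (show Γ(pb g' L, (⊤ : X'.Opens)) from puSec g' σ)} →
      ∃ σ : Γ(L, ⊤), GenAt L σ (show g' z ∈ (⊤ : X.Opens) from trivial) from this t (Or.inl ht) hmem
  intro m hm hmem
  induction hmem using AddSubgroup.closure_induction with
  | mem m hm' =>
    obtain ⟨b, σ, rfl⟩ := hm'
    refine ⟨σ, ?_⟩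
    have : ∀ r : Γ(X', ⊤), GenAt (pb g' L) (r • (show Γ(pb g' L, (⊤ : X'.Opens)) from puSec g' σ))
        (show z ∈ (⊤ : X'.Opens) from trivial) → GenAt L σ (show g' z ∈ (⊤ : X.Opens) from trivial) := fun r h => by
      obtain ⟨U, e, hzU, he⟩ := TwistLib.exists_genOn hL (g' z)
      exact (TwistLib.genAt_puSec_iff g' he σ hzU).mp
        (genAt_of_smul r _ _ hL' h)
    rcases hm with h | h
    · exact this _ h
    · exact this _ (by rwa [← neg_smul] at h)
  | zero =>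
    exfalso
    have h0 : ¬ GenAt (pb g' L) (0 : Γ(pb g' L, ⊤)) (show z ∈ (⊤ : X'.Opens) from trivial) := fun h => by
      have := h.1 (a₁ := 0) (a₂ := 1) (by simp only [map_zero, smul_zero])
      exact zero_ne_one this
    rcases hm with h | h
    · exact h0 h
    · exact h0 (by simpa using h)
  | add a b _ _ iha ihb =>
    rcases hm with h | h
    · rcases genAt_add hL' _ _ _ h with h | h
      · exact iha (Or.inl h)
      · exact ihb (Or.inl h)
    · rw [neg_add] at h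
      rcases genAt_add hL' _ _ _ h with h | h
      · exact iha (Or.inr h)
      · exact ihb (Or.inr h)
  | neg a _ iha =>
    exact iha (by simpa using hm.symm)

/-- very ampleness descends along a faithfully flat extension of an affine base -/
theorem isRelVeryAmple_of_baseChange {g : Y' ⟶ Y} {g' : X' ⟶ X} {f : X ⟶ Y} {f' : X' ⟶ Y'}
    (H : IsPullback g' f' f g) [QuasiCompact f] [Flat g] [Surjective g] [IsAffine Y] [IsAffine Y']
    {L : X.Modules} (hL : PicF.IsInvertible L) (h : RelProj.IsRelVeryAmple f' (pb g' L)) :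
    RelProj.IsRelVeryAmple f L := by
  classical
  haveI : QuasiCompact g := inferInstance
  have hQ : (@Surjective ⊓ @Flat ⊓ @QuasiCompact : MorphismProperty Scheme.{u}) g :=
    ⟨⟨‹Surjective g›, ‹Flat g›⟩, inferInstance⟩
  haveI : IsSeparated f' := EGA2SymLib.isSeparated_of_isRelVeryAmple h
  haveI : IsSeparated f := by
    haveI := MiscFlat6.desc_isSeparated.{u}
    exact MorphismProperty.of_isPullback_of_descendsAlong (P := @IsSeparated)
      (Q := @Surjective ⊓ @Flat ⊓ @QuasiCompact) H.flip hQ inferInstance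
  haveI : Surjective g' := MorphismProperty.of_isPullback (P := @Surjective) H.flip ‹Surjective g›
  haveI : Coh.IsQCoh L := TwistLib.isQCoh_of_isInvertible hL
  haveI : Coh.IsQCoh ((Scheme.Modules.pushforward f).obj L) := QCohLib.isQCoh_pushforward _ _
  have hL' : PicF.IsInvertible (pb g' L) := AmpleDevLib.isInvertible_pb g' hL
  refine EGA2SymLib.isRelVeryAmple_of_secAt hL fun x => ⟨⊤, isAffineOpen_top Y, ?_⟩
  obtain ⟨x', rfl⟩ := g'.surjective x
  obtain ⟨e₀, _hx₀, he₀, _⟩ := EGA2SymLib.secAt_of_isRelVeryAmple h (isAffineOpen_top Y') (x := x') trivial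
  obtain ⟨σ, hσ⟩ := exists_genAt_puSec H hL e₀ he₀
  refine ⟨σ, trivial, hσ, fun W hW hWσ => ?_⟩
  -- coefficients with respect to `σ` on its locus
  have hgW : GenOn L (res L hW σ) :=
    TwistLib.genOn_of_genAt fun z hz => (AmpleLib.genAt_res _ σ hz).mpr ((hWσ z trivial).mp hz)
  choose c hc using fun m : Γ(L, (⊤ : X.Opens)) => (hgW W le_rfl).2 (res L hW m)
  simp only [AmpleLib.res_refl] at hc
  let ρ : (W : Scheme.{u}) ⟶ 𝔸(Γ(L, (⊤ : X.Opens)); Y) :=
    AffineSpace.homOfVector (W.ι ≫ f) fun m => W.topIso.inv (c m)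
  have hρc : ∀ m, ρ.appTop (AffineSpace.coord Y m) = W.topIso.inv (c m) := fun m =>
    AffineSpace.homOfVector_appTop_coord _ _ m
  let W' : X'.Opens := g' ⁻¹ᵁ W
  let k : (W' : Scheme.{u}) ⟶ (W : Scheme.{u}) := g' ∣_ W
  let f'' : (W' : Scheme.{u}) ⟶ Y' := W'.ι ≫ f'
  have hsqW : IsPullback k f'' (W.ι ≫ f) g := by
    exact (IsPullback.paste_vert (isPullback_morphismRestrict g' W) H)
  have hA := AffineSpace.isPullback_map (n := Γ(L, (⊤ : X.Opens))) g
  have hρover : ρ ≫ 𝔸(Γ(L, (⊤ : X.Opens)); Y) ↘ Y = W.ι ≫ f := AffineSpace.homOfVector_over _ _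
  let ρ' : (W' : Scheme.{u}) ⟶ 𝔸(Γ(L, (⊤ : X.Opens)); Y') :=
    hA.lift (k ≫ ρ) f'' (by rw [Category.assoc, hρover]; exact hsqW.w)
  have hρ'1 : ρ' ≫ AffineSpace.map _ g = k ≫ ρ := hA.lift_fst _ _ _
  have hρ'2 : ρ' ≫ 𝔸(Γ(L, (⊤ : X.Opens)); Y') ↘ Y' = f'' := hA.lift_snd _ _ _
  have sq : IsPullback k ρ' ρ (AffineSpace.map _ g) := by
    refine IsPullback.of_bot ?_ hρ'1.symm hA
    rw [hρ'2, hρover]
    exact hsqW
  suffices hρ' : IsImmersion ρ' by
    have hmap : (@Surjective ⊓ @Flat ⊓ @QuasiCompact : MorphismProperty Scheme.{u})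
        (AffineSpace.map Γ(L, (⊤ : X.Opens)) g) :=
      ⟨⟨MorphismProperty.of_isPullback (P := @Surjective) hA.flip ‹Surjective g›,
        MorphismProperty.of_isPullback (P := @Flat) hA.flip ‹Flat g›⟩,
        MorphismProperty.of_isPullback (P := @QuasiCompact) hA.flip inferInstance⟩
    haveI : QuasiCompact ρ' := by
      haveI : QuasiCompact f' := MorphismProperty.of_isPullback (P := @QuasiCompact) H ‹QuasiCompact f›
      haveI : CompactSpace X' := QuasiCompact.compactSpace_of_compactSpace f'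
      have hW'c : CompactSpace (W' : Scheme.{u}) := by
        refine isCompact_iff_compactSpace.mp ?_
        refine EGA2SymLib.isCompact_genLocus hL' (Ω := ⊤) isCompact_univ
          (show Γ(pb g' L, (⊤ : X'.Opens)) from puSec g' σ) le_top fun z _ => ?_
        obtain ⟨U, e, hzU, he⟩ := TwistLib.exists_genOn hL (g' z)
        refine Iff.trans ?_ (TwistLib.genAt_puSec_iff g' he σ hzU).symm
        exact hWσ (g' z) trivial
      exact quasiCompact_of_compactSpace ρ'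
    haveI := AlgSpRegLib.descendsAlong_qcImmersion.{u}
    have hρ : IsImmersion ρ := (MorphismProperty.of_isPullback_of_descendsAlong
      (P := @IsImmersion ⊓ @QuasiCompact) (Q := @Surjective ⊓ @Flat ⊓ @QuasiCompact) sq.flip hmap
      ⟨hρ', inferInstance⟩).1
    refine ⟨_, inferInstance, ρ, hρ, fun a => ?_⟩
    let G := {a : Γ(X, W) | ∃ m : Γ(L, (⊤ : X.Opens)), res L hW m = a • res L hW σ}
    suffices ∀ p : MvPolynomial Γ(L, (⊤ : X.Opens)) Γ(Y, ⊤),
        W.topIso.hom (ρ.appTop ((AffineSpace.isoOfIsAffine _ Y).hom.appTop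
          ((Scheme.ΓSpecIso (.of _)).inv p))) ∈ Subring.closure G by
      obtain ⟨b, rfl⟩ := (ConcreteCategory.bijective_of_isIso
        (AffineSpace.isoOfIsAffine Γ(L, (⊤ : X.Opens)) Y).hom.appTop).2 a
      obtain ⟨p, rfl⟩ := (ConcreteCategory.bijective_of_isIso (Scheme.ΓSpecIso (.of
        (MvPolynomial Γ(L, (⊤ : X.Opens)) Γ(Y, ⊤)))).inv).2 b
      exact this p
    intro p
    induction p using MvPolynomial.induction_on with
    | C r =>
      refine Subring.subset_closure ⟨f.appTop r • σ, ?_⟩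
      rw [AmpleLib.res_smul]
      congr 1
      simp only [AffineSpace.isoOfIsAffine_hom_appTop, CommRingCat.comp_apply,
        CategoryTheory.Iso.inv_hom_id_apply, CommRingCat.hom_ofHom, MvPolynomial.eval₂Hom_C]
      rw [← CommRingCat.comp_apply _ ρ.appTop, ← Scheme.Hom.comp_appTop, hρover, topIso_comp]
      rfl
    | add p q hp hq => simp only [map_add]; exact Subring.add_mem _ hp hq
    | mul_X p m hp =>
      simp only [map_mul]
      refine Subring.mul_mem _ hp (Subring.subset_closure ⟨m, ?_⟩)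
      refine (hc m).symm.trans ?_
      congr 1
      simp only [AffineSpace.isoOfIsAffine_hom_appTop, CommRingCat.comp_apply,
        CategoryTheory.Iso.inv_hom_id_apply, CommRingCat.hom_ofHom, MvPolynomial.eval₂Hom_X', hρc]
  -- upstairs: the coefficients come from functions on the affine space
  let R : Subring Γ(X', W') := (W'.topIso.hom.hom.comp ρ'.appTop.hom).range
  let s' : Γ(pb g' L, W') := puSec g' (res L hW σ)
  have hs' : GenOn (pb g' L) s' := AmpleDevLib.puSec_genOn g' hgW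
  have hspan : ∀ t : Γ(pb g' L, (⊤ : X'.Opens)), ∃ d ∈ R, res (pb g' L) le_top t = d • s' := by
    intro t
    induction SquareLib.span_puSec_top H L t using AddSubgroup.closure_induction with
    | mem m hm =>
      obtain ⟨b, m, rfl⟩ := hm
      refine ⟨X'.presheaf.map (homOfLE le_top).op (f'.appTop b) *
        g'.app W (c m), Subring.mul_mem _ ?_ ?_, ?_⟩
      · refine ⟨(𝔸(Γ(L, (⊤ : X.Opens)); Y') ↘ Y').appTop b, ?_⟩
        show W'.topIso.hom (ρ'.appTop _) = _
        rw [← CommRingCat.comp_apply _ ρ'.appTop, ← Scheme.Hom.comp_appTop, hρ'2]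
        exact topIso_comp W' f' b
      · refine ⟨(AffineSpace.map Γ(L, (⊤ : X.Opens)) g).appTop (AffineSpace.coord Y m), ?_⟩
        show W'.topIso.hom (ρ'.appTop _) = _
        rw [← CommRingCat.comp_apply _ ρ'.appTop, ← Scheme.Hom.comp_appTop, hρ'1, Scheme.Hom.comp_appTop,
          CommRingCat.comp_apply, hρc]
        exact restrict_appTop g' W (c m)
      · rw [AmpleLib.res_smul, mul_smul]
        refine congrArg _ ?_
        rw [show g'.app W (c m) • s' = puSec g' (c m • res L hW σ) from (KFlatLib.puSec_smul g' (c m) (res L hW σ)).symm, hc]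
        exact (TwistLib.puSec_res g' hW m).symm
    | zero => exact ⟨0, Subring.zero_mem _, by rw [zero_smul]; exact map_zero _⟩
    | add a b _ _ iha ihb =>
      obtain ⟨da, hda, ha⟩ := iha
      obtain ⟨db, hdb, hb⟩ := ihb
      exact ⟨da + db, Subring.add_mem _ hda hdb, by
        rw [add_smul, ← ha, ← hb]; exact map_add ((pb g' L).presheaf.map (homOfLE le_top).op).hom a b⟩
    | neg a _ iha =>
      obtain ⟨da, hda, ha⟩ := iha
      exact ⟨-da, Subring.neg_mem _ hda, by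
        rw [neg_smul, ← ha]; exact map_neg ((pb g' L).presheaf.map (homOfLE le_top).op).hom a⟩
  refine EGA2SymLib.isImmersion_of_targets ρ' fun z => ?_
  obtain ⟨e, _hx, he, hrest⟩ := EGA2SymLib.secAt_of_isRelVeryAmple h (isAffineOpen_top Y') (x := W'.ι z) trivial
  obtain ⟨W₁, hW₁, hW₁e⟩ := EGA2SymLib.exists_genLocus hL' e
  obtain ⟨A, hA', φ, hφ, hφa⟩ := hrest W₁ hW₁ hW₁e
  obtain ⟨de, ⟨P, hP⟩, hde⟩ := hspan e
  change W'.topIso.hom (ρ'.appTop P) = de at hP
  let D := 𝔸(Γ(L, (⊤ : X.Opens)); Y').basicOpen P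
  have hmemD : ∀ y : (W' : Scheme.{u}), y ∈ ρ' ⁻¹ᵁ D ↔ W'.ι y ∈ W₁ := fun y => by
    have hy : W'.ι y ∈ W' := y.2
    rw [hW₁e _ trivial, ← AmpleLib.genAt_res (le_top : W' ≤ ⊤) e (x := W'.ι y) hy, hde,
      AmpleLib.genAt_smul_iff _ _ hy (hs'.genAt hy), ← hP]
    show y ∈ ρ' ⁻¹ᵁ 𝔸(Γ(L, (⊤ : X.Opens)); Y').basicOpen P ↔ _
    rw [Scheme.preimage_basicOpen]
    exact mem_basicOpen_topIso (ρ'.appTop P) y
  refine ⟨D, (hmemD z).mpr ((hW₁e _ trivial).mpr he), ?_⟩
  let r : (ρ' ⁻¹ᵁ D : Scheme.{u}) ⟶ (D : Scheme.{u}) := ρ' ∣_ D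
  haveI : IsAffine (D : Scheme.{u}) := (isAffineOpen_top _).basicOpen P
  suffices IsImmersion r by
    rw [← morphismRestrict_ι ρ' D]
    infer_instance
  let Z := ρ' ⁻¹ᵁ D
  let j : (Z : Scheme.{u}) ⟶ X' := Z.ι ≫ W'.ι
  have hjW : ⊤ ≤ j ⁻¹ᵁ W' := fun y _ => (Z.ι y).2
  have hjW₁ : ⊤ ≤ j ⁻¹ᵁ W₁ := fun y _ => (hmemD (Z.ι y)).mp y.2
  let j₁ : (Z : Scheme.{u}) ⟶ (W₁ : Scheme.{u}) := IsOpenImmersion.lift W₁.ι j (by
    rw [Scheme.Opens.range_ι]
    rintro _ ⟨y, rfl⟩
    exact (hmemD (Z.ι y)).mp y.2)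
  have hj₁ : j₁ ≫ W₁.ι = j := IsOpenImmersion.lift_fac _ _ _
  haveI : IsOpenImmersion (j₁ ≫ W₁.ι) := hj₁ ▸ inferInstance
  haveI : IsOpenImmersion j₁ := IsOpenImmersion.of_comp j₁ W₁.ι
  haveI := hA'
  haveI := hφ
  refine EGA2SymLib.isImmersion_of_range_le (j₁ ≫ φ) r ?_
  rintro _ ⟨a, rfl⟩
  have hjj : ∀ a : Γ(W₁.toScheme, ⊤), j₁.appTop a = j.appLE W₁ ⊤ hjW₁ (W₁.topIso.hom a) := fun a => by
    simp only [← hj₁]
    exact (comp_ι_appLE j₁ _ a).symm
  have hR : ∀ d ∈ R, j.appLE W' ⊤ hjW d ∈ r.appTop.hom.range := by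
    rintro _ ⟨Q, rfl⟩
    refine ⟨D.ι.appTop Q, ?_⟩
    rw [← CommRingCat.comp_apply _ r.appTop, ← Scheme.Hom.comp_appTop, morphismRestrict_ι]
    refine Eq.trans ?_ (comp_ι_appLE Z.ι hjW (ρ'.appTop Q)).symm
    rw [Scheme.Hom.comp_appTop, CommRingCat.comp_apply]
  show (j₁ ≫ φ).appTop a ∈ r.appTop.hom.range
  rw [Scheme.Hom.comp_appTop, CommRingCat.comp_apply, hjj]
  refine (Subring.closure_le (t := r.appTop.hom.range.comap (j.appLE W₁ ⊤ hjW₁).hom)).mpr ?_ (hφa a)
  rintro q ⟨m, hm⟩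
  obtain ⟨dm, hdm, hm'⟩ := hspan m
  let T := W' ⊓ W₁
  have hjT : ⊤ ≤ j ⁻¹ᵁ T := fun y _ => ⟨hjW trivial, hjW₁ trivial⟩
  have heq : X'.presheaf.map (homOfLE (inf_le_left : T ≤ W')).op dm =
      X'.presheaf.map (homOfLE (inf_le_right : T ≤ W₁)).op q *
        X'.presheaf.map (homOfLE (inf_le_left : T ≤ W')).op de := by
    refine (hs' T inf_le_left).1 ?_
    dsimp only
    rw [mul_smul, ← AmpleLib.res_smul, ← AmpleLib.res_smul, ← hde, ← hm', AmpleLib.res_res, AmpleLib.res_res]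
    have := congrArg (res (pb g' L) (inf_le_right : T ≤ W₁)) hm
    rw [AmpleLib.res_smul, AmpleLib.res_res, AmpleLib.res_res] at this
    exact this
  have heq' := congrArg (j.appLE T ⊤ hjT) heq
  rw [map_mul] at heq'
  rw [show j.appLE T ⊤ hjT (X'.presheaf.map (homOfLE (inf_le_left : T ≤ W')).op dm) = j.appLE W' ⊤ hjW dm from
      congr($(Scheme.Hom.map_appLE j hjT (homOfLE (inf_le_left : T ≤ W')).op) dm),
    show j.appLE T ⊤ hjT (X'.presheaf.map (homOfLE (inf_le_right : T ≤ W₁)).op q) = j.appLE W₁ ⊤ hjW₁ q from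
      congr($(Scheme.Hom.map_appLE j hjT (homOfLE (inf_le_right : T ≤ W₁)).op) q),
    show j.appLE T ⊤ hjT (X'.presheaf.map (homOfLE (inf_le_left : T ≤ W')).op de) = j.appLE W' ⊤ hjW de from
      congr($(Scheme.Hom.map_appLE j hjT (homOfLE (inf_le_left : T ≤ W')).op) de)] at heq'
  obtain ⟨Qm, hQm⟩ := hR dm hdm
  have hu : IsUnit (D.ι.appTop P) := by
    have h1 := 𝔸(Γ(L, (⊤ : X.Opens)); Y').toRingedSpace.isUnit_res_basicOpen P
    have h2 := h1.map D.topIso.inv.hom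
    have e1 : D.ι.appTop P = D.topIso.inv.hom (𝔸(Γ(L, (⊤ : X.Opens)); Y').presheaf.map
        (homOfLE (le_top : D ≤ ⊤)).op P) := by
      rw [← AVThetaLib.topIso_ι D P]
      exact (CategoryTheory.Iso.hom_inv_id_apply _ _).symm
    rw [e1]
    exact h2
  have hde' : r.appTop (D.ι.appTop P) = j.appLE W' ⊤ hjW de := by
    rw [← CommRingCat.comp_apply _ r.appTop, ← Scheme.Hom.comp_appTop, morphismRestrict_ι, ← hP]
    refine Eq.trans ?_ (comp_ι_appLE Z.ι hjW (ρ'.appTop P)).symm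
    rw [Scheme.Hom.comp_appTop, CommRingCat.comp_apply]
  obtain ⟨v, hv⟩ := hu.exists_right_inv
  refine ⟨Qm * v, ?_⟩
  show r.appTop (Qm * v) = j.appLE W₁ ⊤ hjW₁ q
  rw [map_mul, show r.appTop Qm = j.appLE W' ⊤ hjW dm from hQm, heq', ← hde', mul_assoc, ← map_mul, hv, map_one,
    mul_one]

end VADescLib

end
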